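import Mathlib.RingTheory.LocalRing.ResidueField.Ideal
import Mathlib.FieldTheory.IsAlgClosed.AlgebraicClosure
import Mathlib.RingTheory.Flat.FaithfullyFlat.Basic
import Mathlib.LinearAlgebra.FreeModule.Basic

/-!
# A common algebraically closed field for two field-valued points over the same prime
-/

set_option autoImplicit false
universe u

open scoped TensorProduct

namespace K836.Common

/-- Two fields over a ring with the same kernel embed in a common algebraically closed field. -/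
theorem exists_field {C K₁ K₂ : Type u} [CommRing C] [Field K₁] [Field K₂] (f₁ : C →+* K₁) (f₂ : C →+* K₂)
    (h : RingHom.ker f₁ = RingHom.ker f₂) :
    ∃ (Ω : Type u) (_ : Field Ω) (_ : IsAlgClosed Ω) (g₁ : K₁ →+* Ω) (g₂ : K₂ →+* Ω),
      g₁.comp f₁ = g₂.comp f₂ := by
  have : (RingHom.ker f₁).IsPrime := RingHom.ker_isPrime f₁
  have hk : ∀ {K : Type u} [Field K] (f : C →+* K), RingHom.ker f₁ = RingHom.ker f →
      (RingHom.ker f₁).primeCompl ≤ (IsUnit.submonoid K).comap f := by
    intro K _ f hf c hc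
    have : c ∉ RingHom.ker f₁ := hc
    rw [hf] at this
    exact (show f c ≠ 0 from this).isUnit
  let l₁ := Ideal.ResidueField.lift (RingHom.ker f₁) f₁ le_rfl (hk f₁ rfl)
  let l₂ := Ideal.ResidueField.lift (RingHom.ker f₁) f₂ h.le (hk f₂ h)
  let := l₁.toAlgebra
  let := l₂.toAlgebra
  have hnt : Nontrivial (K₁ ⊗[(RingHom.ker f₁).ResidueField] K₂) := inferInstance
  obtain ⟨m, hm⟩ := Ideal.exists_maximal (K₁ ⊗[(RingHom.ker f₁).ResidueField] K₂)
  let := Ideal.Quotient.field m
  let a : K₁ →+* (K₁ ⊗[(RingHom.ker f₁).ResidueField] K₂) := Algebra.TensorProduct.includeLeftRingHom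
  let b : K₂ →+* (K₁ ⊗[(RingHom.ker f₁).ResidueField] K₂) :=
    (Algebra.TensorProduct.includeRight : K₂ →ₐ[(RingHom.ker f₁).ResidueField] _).toRingHom
  let c := (algebraMap _ (AlgebraicClosure ((K₁ ⊗[(RingHom.ker f₁).ResidueField] K₂) ⧸ m))).comp
    (Ideal.Quotient.mk m)
  refine ⟨AlgebraicClosure ((K₁ ⊗[(RingHom.ker f₁).ResidueField] K₂) ⧸ m), inferInstance, inferInstance,
    c.comp a, c.comp b, ?_⟩
  refine RingHom.ext fun x => congrArg c ?_
  have h1 : f₁ x = algebraMap (RingHom.ker f₁).ResidueField K₁ (algebraMap C _ x) :=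
    (Ideal.ResidueField.lift_algebraMap _ f₁ le_rfl (hk f₁ rfl) x).symm
  have h2 : f₂ x = algebraMap (RingHom.ker f₁).ResidueField K₂ (algebraMap C _ x) :=
    (Ideal.ResidueField.lift_algebraMap _ f₂ h.le (hk f₂ h) x).symm
  change (f₁ x) ⊗ₜ (1 : K₂) = (1 : K₁) ⊗ₜ (f₂ x)
  rw [h1, h2]
  generalize algebraMap C (RingHom.ker f₁).ResidueField x = y
  rw [Algebra.algebraMap_eq_smul_one, Algebra.algebraMap_eq_smul_one, TensorProduct.smul_tmul]

end K836.Common
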