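import Groth.Agent.CoactBr.K836.InertiaRing

/-!
# Trivial inertia on scheme-valued and on ring-valued points
-/

set_option autoImplicit false
universe u

open CategoryTheory MonoidalCategory CartesianMonoidalCategory MonObj AlgebraicGeometry
open CoactBr

namespace K836.Inertia

variable {R A B : Type u} [CommRing R] [CommRing A] [CommRing B] [HopfAlgebra R A] [Algebra R B]
  [HopfRep.Comod R A B] [GLin.IsCoactAlg R A B]

/-- the structure morphism of `sp R B` -/
theorem sp_hom {B : Type u} [CommRing B] [Algebra R B] :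
    (sp R B).hom = Spec.map (CommRingCat.ofHom (algebraMap R B)) := rfl

/-- every ring-valued point comes from an algebra map -/
theorem exists_pt {B L : Type u} [CommRing B] [Algebra R B] [CommRing L] [Algebra R L]
    (j : sp R L ⟶ sp R B) : ∃ φ : B →ₐ[R] L, pt φ = j := by
  let f : Spec (CommRingCat.of L) ⟶ Spec (CommRingCat.of B) := j.left
  have hw : f ≫ Spec.map (CommRingCat.ofHom (algebraMap R B)) =
    Spec.map (CommRingCat.ofHom (algebraMap R L)) := Over.w j
  obtain ⟨φ, hφ⟩ := Spec.map_surjective f
  rw [← hφ, ← Spec.map_comp] at hw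
  have hw' := Spec.map_injective hw
  refine ⟨{ φ.hom with
            commutes' := fun r => congrArg (fun f => CommRingCat.Hom.hom f r) hw' }, ?_⟩
  apply Over.OverMorphism.ext
  exact hφ

/-- ring-valued points of `T` detect equality of morphisms out of `T` -/
theorem hom_ext {T X : Over (Spec (CommRingCat.of R))} {g g' : T ⟶ X}
    (h : ∀ (L : Type u) [CommRing L] [Algebra R L] (j : sp R L ⟶ T), j ≫ g = j ≫ g') : g = g' := by
  apply Over.OverMorphism.ext
  refine Scheme.Cover.hom_ext T.left.affineOpenCover.openCover _ _ fun i => ?_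
  let φ : CommRingCat.of R ⟶ T.left.affineOpenCover.X i :=
    Spec.preimage (T.left.affineOpenCover.f i ≫ T.hom)
  let := φ.hom.toAlgebra
  let j : sp R (T.left.affineOpenCover.X i) ⟶ T := Over.homMk (T.left.affineOpenCover.f i) (by
    exact (Spec.map_preimage (T.left.affineOpenCover.f i ≫ T.hom)).symm)
  exact congrArg CommaMorphism.left (h _ j)

/-- The condition of the statements: every point of `G` fixing `x` is the unit. -/
def STriv {L : Type u} [CommRing L] [Algebra R L] (x : B →ₐ[R] L) : Prop :=
  ∀ (T : Over (Spec (CommRingCat.of R))) (h : T ⟶ sp R L) (g : T ⟶ sp R A),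
    lift g (h ≫ pt x) ≫ (action R A B).act = h ≫ pt x → g = 1

theorem fix_iff {L : Type u} [CommRing L] [Algebra R L] (x : B →ₐ[R] L) (g : A →ₐ[R] L) :
    Fix x g ↔ lift (pt x) (pt g) ≫ ract R A B = pt x := by
  rw [lift_pt_ract]
  constructor
  · intro h
    congr 1
    ext b
    exact h b
  · intro h b
    exact DFunLike.congr_fun (pt_injective h) b

theorem triv_iff {L : Type u} [CommRing L] [Algebra R L] (x : B →ₐ[R] L) :
    Triv (A := A) x ↔ STriv (A := A) x := by
  constructor
  · intro H T h g hg
    apply hom_ext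
    intro L' _ _ j
    obtain ⟨g', hg'⟩ := exists_pt (j ≫ g)
    obtain ⟨ψ, hψ⟩ := exists_pt (j ≫ h)
    obtain ⟨k, hk⟩ := exists_pt (j ≫ g)⁻¹
    have h1 : Fix (ψ.comp x) k := by
      rw [fix_iff, hk, pt_comp, hψ, ← lift_action_act]
      have := congrArg (fun z => j ≫ z) hg
      simpa only [← Category.assoc, comp_lift] using this
    have h2 := H L' ψ k h1
    rw [comp_one, ← inv_inj, ← hk, h2, ← one_eq_pt, inv_one]
  · intro H L' _ _ ψ g hg
    have h1 : ((pt g)⁻¹ : sp R L' ⟶ sp R A) = 1 := by
      refine H (sp R L') (pt ψ) (pt g)⁻¹ ?_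
      rw [lift_action_act, inv_inv, ← pt_comp]
      exact (fix_iff _ _).mp hg
    rw [inv_eq_one] at h1
    apply pt_injective
    rw [h1, one_eq_pt]

end K836.Inertia
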