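import Groth.Prelude.Def_CoactBr
import Mathlib.RingTheory.LocalRing.Module
import Mathlib.RingTheory.Spectrum.Prime.Module
import Mathlib.RingTheory.Flat.FaithfullyFlat.Basic
import Mathlib.RingTheory.TensorProduct.Quotient

/-!
# The inertia module of a comodule algebra

For a commutative Hopf algebra `A` over `R` and a comodule algebra `B`, let `N ⊆ B ⊗ A` be the ideal
generated by `ρ(b) - b ⊗ 1` and `M = (B ⊗ A) / (N + B)`, a `B`-module, finite when `A` is finite over `R`.
For `x : B → L` the inertia group scheme at `x` is trivial iff `L ⊗_B M = 0`.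
-/

set_option autoImplicit false
universe u

open scoped TensorProduct

namespace K836.Inertia

variable (R A B : Type u) [CommRing R] [CommRing A] [CommRing B] [Bialgebra R A] [Algebra R B]
  [HopfRep.Comod R A B] [GLin.IsCoactAlg R A B]

/-- The ideal of the inertia group scheme. -/
noncomputable def N : Ideal (B ⊗[R] A) :=
  Ideal.span (Set.range fun b : B => GLin.coactAlgHom R A B b - b ⊗ₜ[R] (1 : A))

/-- `N + B ⊗ 1`. -/
noncomputable def D : Submodule B (B ⊗[R] A) :=
  (N R A B).restrictScalars B ⊔ LinearMap.range (Algebra.linearMap B (B ⊗[R] A))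

/-- The inertia module. -/
abbrev M : Type u := (B ⊗[R] A) ⧸ D R A B

instance [Module.Finite R A] : Module.Finite B (M R A B) := inferInstance

/-- The counit law on elements. -/
theorem lift_counit_coact {L : Type u} [CommRing L] [Algebra R L] (x : B →ₐ[R] L) (b : B) :
    Algebra.TensorProduct.lift x ((Algebra.ofId R L).comp (Bialgebra.counitAlgHom R A))
      (fun _ _ => .all _ _) (GLin.coactAlgHom R A B b) = x b := by
  have h1 : (Algebra.TensorProduct.map (AlgHom.id R B) (Bialgebra.counitAlgHom R A)).comp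
      (GLin.coactAlgHom R A B) = (Algebra.TensorProduct.rid R R B).symm.toAlgHom :=
    congrArg CommAlgCat.Hom.hom (CoactBr.coactHom_counit R A B)
  have h2 : Algebra.TensorProduct.lift x ((Algebra.ofId R L).comp (Bialgebra.counitAlgHom R A))
      (fun _ _ => .all _ _) = (Algebra.TensorProduct.lift x (Algebra.ofId R L) (fun _ _ => .all _ _)).comp
        (Algebra.TensorProduct.map (AlgHom.id R B) (Bialgebra.counitAlgHom R A)) := by
    ext
    · simp
    · simp
  rw [h2, AlgHom.comp_apply]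
  have h3 := DFunLike.congr_fun h1 b
  rw [AlgHom.comp_apply] at h3
  rw [h3]
  change Algebra.TensorProduct.lift x (Algebra.ofId R L) (fun _ _ => .all _ _)
    ((Algebra.TensorProduct.rid R R B).symm b) = x b
  rw [Algebra.TensorProduct.rid_symm_apply]
  simp

variable {R A B}

/-- `g` fixes `x` (for the right action). -/
def Fix {L : Type u} [CommRing L] [Algebra R L] (x : B →ₐ[R] L) (g : A →ₐ[R] L) : Prop :=
  ∀ b, Algebra.TensorProduct.lift x g (fun _ _ => .all _ _) (GLin.coactAlgHom R A B b) = x b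

/-- The inertia group scheme at `x` is trivial, on ring-valued points. -/
def Triv {L : Type u} [CommRing L] [Algebra R L] (x : B →ₐ[R] L) : Prop :=
  ∀ (L' : Type u) [CommRing L'] [Algebra R L'] (ψ : L →ₐ[R] L') (g : A →ₐ[R] L'),
    Fix (ψ.comp x) g → g = (Algebra.ofId R L').comp (Bialgebra.counitAlgHom R A)

theorem Fix.kills {L : Type u} [CommRing L] [Algebra R L] {x : B →ₐ[R] L} {g : A →ₐ[R] L} (h : Fix x g)
    {n : B ⊗[R] A} (hn : n ∈ N R A B) : Algebra.TensorProduct.lift x g (fun _ _ => .all _ _) n = 0 := by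
  have : N R A B ≤ RingHom.ker (Algebra.TensorProduct.lift x g (fun _ _ => .all _ _)) := by
    rw [N, Ideal.span_le]
    rintro _ ⟨b, rfl⟩
    rw [SetLike.mem_coe, RingHom.mem_ker, map_sub, h b]
    simp
  exact this hn

theorem triv_of_subsingleton {L : Type u} [CommRing L] [Algebra R L] [Algebra B L] [IsScalarTower R B L]
    (h : Subsingleton (L ⊗[B] M R A B)) : Triv (A := A) (IsScalarTower.toAlgHom R B L) := by
  intro L' _ _ ψ g hg
  set g₀ : A →ₐ[R] L' := (Algebra.ofId R L').comp (Bialgebra.counitAlgHom R A) with hg₀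
  set x : B →ₐ[R] L' := ψ.comp (IsScalarTower.toAlgHom R B L) with hx
  have hfix₀ : Fix x g₀ := fun b => lift_counit_coact R A B x b
  let : Algebra L L' := ψ.toRingHom.toAlgebra
  let : Algebra B L' := x.toRingHom.toAlgebra
  have : IsScalarTower B L L' := IsScalarTower.of_algebraMap_eq fun _ => rfl
  let Θ := Algebra.TensorProduct.lift x g (fun _ _ => .all _ _)
  let Θ₀ := Algebra.TensorProduct.lift x g₀ (fun _ _ => .all _ _)
  have hsm : ∀ (Φ : B ⊗[R] A →ₐ[R] L'), (∀ b, Φ (b ⊗ₜ 1) = x b) → ∀ (b : B) (z : B ⊗[R] A),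
      Φ (b • z) = b • Φ z := by
    intro Φ hΦ b z
    rw [Algebra.smul_def, map_mul, Algebra.smul_def]
    congr 1
    exact hΦ b
  let δ : B ⊗[R] A →ₗ[B] L' :=
    { toFun := fun z => Θ z - Θ₀ z
      map_add' := fun y z => by simp only [map_add]; ring
      map_smul' := fun b z => by
        rw [hsm Θ (fun b => by simp [Θ]) b z, hsm Θ₀ (fun b => by simp [Θ₀]) b z, smul_sub]
        rfl }
  have hδ : D R A B ≤ LinearMap.ker δ := by
    rw [D, sup_le_iff]
    constructor
    · intro n hn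
      rw [LinearMap.mem_ker]
      change Θ n - Θ₀ n = 0
      rw [show Θ n = 0 from hg.kills hn, show Θ₀ n = 0 from hfix₀.kills hn, sub_zero]
    · rintro _ ⟨b, rfl⟩
      rw [LinearMap.mem_ker]
      change Θ (b ⊗ₜ 1) - Θ₀ (b ⊗ₜ 1) = 0
      simp [Θ, Θ₀]
  let δ' : M R A B →ₗ[B] L' := (D R A B).liftQ δ hδ
  let δ'' : L ⊗[B] M R A B →ₗ[L] L' := δ'.liftBaseChange L
  ext a
  have h1 : δ'' (1 ⊗ₜ Submodule.Quotient.mk (1 ⊗ₜ a)) = Θ (1 ⊗ₜ a) - Θ₀ (1 ⊗ₜ a) := by
    simp only [δ'', LinearMap.liftBaseChange_tmul, one_smul]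
    rfl
  rw [Subsingleton.elim (1 ⊗ₜ[B] Submodule.Quotient.mk (1 ⊗ₜ a)) 0, map_zero] at h1
  have h2 : Θ (1 ⊗ₜ a) = g a := by simp [Θ]
  have h3 : Θ₀ (1 ⊗ₜ a) = g₀ a := by simp [Θ₀]
  rw [h2, h3] at h1
  exact (sub_eq_zero.mp h1.symm)

theorem Triv.eq {L : Type u} [CommRing L] [Algebra R L] {x : B →ₐ[R] L}
    (h : Triv (A := A) x) {L' : Type u} [CommRing L'] [Algebra R L'] (ψ : L →ₐ[R] L')
    (Φ : B ⊗[R] A →ₐ[R] L') (h1 : ∀ b, Φ (b ⊗ₜ 1) = ψ (x b))
    (h2 : ∀ b, Φ (GLin.coactAlgHom R A B b) = Φ (b ⊗ₜ 1)) (b : B) (a : A) :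
    Φ (b ⊗ₜ a) = ψ (x b * algebraMap R L (Coalgebra.counit a)) := by
  let g : A →ₐ[R] L' := Φ.comp Algebra.TensorProduct.includeRight
  have hlift : Algebra.TensorProduct.lift (ψ.comp x) g (fun _ _ => .all _ _) = Φ := by
    apply Algebra.TensorProduct.ext
    · rw [Algebra.TensorProduct.lift_comp_includeLeft]
      ext b
      exact (h1 b).symm
    · rw [Algebra.TensorProduct.lift_comp_includeRight]
      rfl
  have hfix : Fix (ψ.comp x) g := by
    intro b
    rw [hlift, h2, h1]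
    rfl
  have hg := h L' ψ g hfix
  have h3 : g a = ψ (algebraMap R L (Coalgebra.counit a)) := by
    rw [hg, AlgHom.commutes]
    rfl
  rw [map_mul, ← h3, ← h1]
  change _ = Φ (b ⊗ₜ 1) * Φ (1 ⊗ₜ a)
  rw [← map_mul, Algebra.TensorProduct.tmul_mul_tmul, mul_one, one_mul]

theorem subsingleton_of_triv {L : Type u} [CommRing L] [Algebra R L] [Algebra B L] [IsScalarTower R B L]
    (h : Triv (A := A) (IsScalarTower.toAlgHom R B L)) : Subsingleton (L ⊗[B] M R A B) := by
  let q : B ⊗[R] A →ₐ[B] ((B ⊗[R] A) ⧸ N R A B) := Ideal.Quotient.mkₐ B (N R A B)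
  have hq : ∀ b : B, q (b ⊗ₜ[R] (1 : A)) = algebraMap B _ b := fun _ => rfl
  have hq2 : ∀ b : B, q (GLin.coactAlgHom R A B b) = q (b ⊗ₜ[R] (1 : A)) := by
    intro b
    change Ideal.Quotient.mk (N R A B) _ = Ideal.Quotient.mk (N R A B) _
    rw [Ideal.Quotient.mk_eq_mk_iff_sub_mem]
    exact Ideal.subset_span ⟨b, rfl⟩
  have hsm : ∀ b : B, (1 : L) ⊗ₜ[B] (algebraMap B ((B ⊗[R] A) ⧸ N R A B) b) = (algebraMap B L b) ⊗ₜ[B] 1 := by
    intro b
    rw [Algebra.algebraMap_eq_smul_one, Algebra.algebraMap_eq_smul_one, TensorProduct.smul_tmul]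
  have key0 := h.eq (L' := L ⊗[B] ((B ⊗[R] A) ⧸ N R A B)) Algebra.TensorProduct.includeLeft
    ((Algebra.TensorProduct.includeRight.comp q).restrictScalars R) hsm
    (fun b => congrArg (fun z => (1 : L) ⊗ₜ[B] z) (hq2 b))
  have hN : (N R A B).restrictScalars B ≤ D R A B := le_sup_left
  -- the map `L ⊗ I → L ⊗ M`
  let π : ((B ⊗[R] A) ⧸ N R A B) →ₗ[B] M R A B :=
    Submodule.mapQ ((N R A B).restrictScalars B) (D R A B) LinearMap.id hN
  have hone : ∀ l : L, LinearMap.lTensor L π (l ⊗ₜ[B] 1) = 0 := by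
    intro l
    rw [LinearMap.lTensor_tmul]
    have : π 1 = 0 := by
      change Submodule.Quotient.mk (1 : B ⊗[R] A) = (0 : M R A B)
      rw [Submodule.Quotient.mk_eq_zero]
      exact le_sup_right (a := (N R A B).restrictScalars B) ⟨1, by rw [Algebra.linearMap_apply, map_one]⟩
    rw [this, TensorProduct.tmul_zero]
  have key1 : ∀ (b : B) (a : A), (1 : L) ⊗ₜ[B] (Submodule.Quotient.mk (b ⊗ₜ[R] a) : M R A B) = 0 := by
    intro b a
    have h1 : LinearMap.lTensor L π ((1 : L) ⊗ₜ[B] q (b ⊗ₜ[R] a)) = 0 := by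
      rw [show (1 : L) ⊗ₜ[B] q (b ⊗ₜ[R] a) = _ from key0 b a]
      exact hone _
    exact h1
  have key : ∀ (l : L) (b : B) (a : A), l ⊗ₜ[B] (Submodule.Quotient.mk (b ⊗ₜ[R] a) : M R A B) = 0 := by
    intro l b a
    have := congrArg (fun z => l • z) (key1 b a)
    simpa [TensorProduct.smul_tmul'] using this
  constructor
  have hz : ∀ z : L ⊗[B] M R A B, z = 0 := by
    intro z
    induction z using TensorProduct.induction_on with
    | zero => rfl
    | add y z hy hz => rw [hy, hz, add_zero]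
    | tmul l m =>
      obtain ⟨w, rfl⟩ := Submodule.Quotient.mk_surjective _ m
      induction w using TensorProduct.induction_on with
      | zero => rw [Submodule.Quotient.mk_zero, TensorProduct.tmul_zero]
      | add y z hy hz => rw [Submodule.Quotient.mk_add, TensorProduct.tmul_add, hy, hz, add_zero]
      | tmul b a => exact key l b a
  intro y z
  rw [hz y, hz z]

end K836.Inertia
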