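import Mathlib.RingTheory.LocalRing.Module
import Mathlib.RingTheory.Spectrum.Prime.Module
import Mathlib.RingTheory.Flat.FaithfullyFlat.Basic

/-!
# Support and base change
-/

set_option autoImplicit false
universe u

open scoped TensorProduct

namespace K836.Supp

variable {B : Type u} [CommRing B] (M : Type u) [AddCommGroup M] [Module B M] [Module.Finite B M]

/-- For a field `K` over `B`, `K ⊗ M = 0` iff the kernel of `B → K` is not in the support of `M`. -/
theorem subsingleton_field_iff (K : Type u) [Field K] [Algebra B K] :
    Subsingleton (K ⊗[B] M) ↔
      (⟨RingHom.ker (algebraMap B K), RingHom.ker_isPrime _⟩ : PrimeSpectrum B) ∉ Module.support B M := by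
  rw [Module.mem_support_iff_nontrivial_residueField_tensorProduct, not_nontrivial_iff_subsingleton]
  set q : Ideal B := RingHom.ker (algebraMap B K) with hq
  have : q.IsPrime := RingHom.ker_isPrime _
  have h2 : q.primeCompl ≤ (IsUnit.submonoid K).comap (algebraMap B K) := by
    intro b hb
    have : algebraMap B K b ≠ 0 := hb
    exact this.isUnit
  let : Algebra q.ResidueField K := (Ideal.ResidueField.lift q (algebraMap B K) hq.le h2).toAlgebra
  have : IsScalarTower B q.ResidueField K := IsScalarTower.of_algebraMap_eq fun b =>
    (Ideal.ResidueField.lift_algebraMap q (algebraMap B K) hq.le h2 b).symm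
  let e := TensorProduct.AlgebraTensorModule.cancelBaseChange B q.ResidueField K K M
  rw [← e.toEquiv.subsingleton_congr]
  exact Module.FaithfullyFlat.subsingleton_tensorProduct_iff_right q.ResidueField K

/-- The base change `L ⊗ M` vanishes when `Spec L` misses the support of `M`. -/
theorem subsingleton_baseChange (L : Type u) [CommRing L] [Algebra B L]
    (h : ∀ P : PrimeSpectrum L, PrimeSpectrum.comap (algebraMap B L) P ∉ Module.support B M) :
    Subsingleton (L ⊗[B] M) := by
  rw [← Module.support_eq_empty_iff (R := L)]
  ext P
  simp only [Set.mem_empty_iff_false, iff_false]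
  rw [Module.mem_support_iff_nontrivial_residueField_tensorProduct, not_nontrivial_iff_subsingleton]
  let e := TensorProduct.AlgebraTensorModule.cancelBaseChange B L L P.asIdeal.ResidueField M
  rw [e.toEquiv.subsingleton_congr, subsingleton_field_iff]
  convert h P using 2
  ext b
  rw [RingHom.mem_ker, PrimeSpectrum.comap_asIdeal, Ideal.mem_comap,
    IsScalarTower.algebraMap_apply B L P.asIdeal.ResidueField]
  exact Ideal.algebraMap_residueField_eq_zero

end K836.Supp
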