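import Groth.Agent.CoactBr.K836.InertiaPoints
import Groth.Agent.CoactBr.K836.SuppLemmas
import Groth.Agent.CoactBr.K836.Common
import Groth.Agent.Sga3.H775.ActGrpd
import Groth.Agent.Grpsch.QuotPoints

/-!
# Orbits of geometric points and invariance of inertia
-/

set_option autoImplicit false
universe u

open CategoryTheory MonoidalCategory CartesianMonoidalCategory MonObj AlgebraicGeometry
open CoactBr

namespace K836.Inertia

variable (R A B : Type u) [CommRing R] [CommRing A] [CommRing B] [HopfAlgebra R A] [Algebra R B]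
  [HopfRep.Comod R A B] [GLin.IsCoactAlg R A B]

/-- the groupoid scheme of the action -/
noncomputable abbrev gr : Grpd.GroupoidScheme (Spec (CommRingCat.of R)) :=
  Groth.Agent.Sga3.H775.ActGrpd.actGrpd (action R A B)

instance : IsAffine (gr R A B).U := inferInstanceAs (IsAffine (Spec (CommRingCat.of B)))

instance : IsAffine (gr R A B).R :=
  inferInstanceAs (IsAffine (Limits.pullback (Spec.map (CommRingCat.ofHom (algebraMap R A)))
    (Spec.map (CommRingCat.ofHom (algebraMap R B)))))

instance [Module.Finite R A] : IsFinite (gr R A B).s := by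
  have : IsFinite (Spec.map (CommRingCat.ofHom (algebraMap R A))) := by
    rw [IsFinite.SpecMap_iff]
    exact RingHom.finite_algebraMap.mpr inferInstance
  exact MorphismProperty.pullback_snd (P := @IsFinite) _ _ this

instance [Module.Flat R A] : Flat (gr R A B).s := by
  have : Flat (Spec.map (CommRingCat.ofHom (algebraMap R A))) := by
    rw [Flat.SpecMap_iff]
    exact RingHom.flat_algebraMap_iff.mpr inferInstance
  exact MorphismProperty.pullback_snd (P := @Flat) _ _ this

instance [Module.Finite R A] [Module.Projective R A] : LocallyOfFinitePresentation (gr R A B).s := by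
  have : LocallyOfFinitePresentation (Spec.map (CommRingCat.ofHom (algebraMap R A))) := by
    rw [LocallyOfFinitePresentation.SpecMap_iff]
    have : Module.FinitePresentation R A := Module.finitePresentation_of_projective R A
    exact RingHom.finitePresentation_algebraMap.mpr inferInstance
  exact MorphismProperty.pullback_snd (P := @LocallyOfFinitePresentation) _ _ this

variable {R A B}

theorem swap_act : lift (snd (sp R B) (sp R A) ≫ ι) (fst (sp R B) (sp R A)) ≫ (action R A B).act =
    ract R A B := by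
  rw [lift_action_act, ← Hom.inv_def, inv_inv, lift_fst_snd, Category.id_comp]

theorem appTop_comp_eq {X Y Z : Scheme.{u}} (f : X ⟶ Y) (g g' : Y ⟶ Z) (h h' : X ⟶ Z)
    (e : f ≫ g = h) (e' : f ≫ g' = h') {c : Γ(Z, ⊤)} (hc : g.appTop c = g'.appTop c) :
    h.appTop c = h'.appTop c := by
  subst e e'
  rw [Scheme.Hom.comp_appTop, Scheme.Hom.comp_appTop]
  exact congrArg _ hc

/-- invariant functions of the groupoid are invariants of the coaction -/
theorem inv_mem {c : Γ(Spec (CommRingCat.of B), ⊤)} (hc : c ∈ (gr R A B).invariants) :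
    (Scheme.ΓSpecIso (CommRingCat.of B)).hom c ∈ GLin.invariants R A B := by
  have h0 : (snd (sp R A) (sp R B)).left.appTop c = (action R A B).act.left.appTop c := hc
  have h1 : (fst (sp R B) (sp R A)).left.appTop c = (ract R A B).left.appTop c :=
    appTop_comp_eq
      (lift (snd (sp R B) (sp R A) ≫ ι) (fst (sp R B) (sp R A))).left _ _ _ _
      (congrArg CommaMorphism.left (lift_snd (snd (sp R B) (sp R A) ≫ ι) (fst (sp R B) (sp R A))))
      (congrArg CommaMorphism.left (swap_act (R := R) (A := A) (B := B))) h0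
  have h2 := appTop_comp_eq (pullbackSpecIso R B A).inv _ _ _ _
    (pullbackSpecIso_inv_fst R B A)
    (show (pullbackSpecIso R B A).inv ≫ (ract R A B).left =
      Spec.map (CommRingCat.ofHom (GLin.coactAlgHom R A B).toRingHom) from
        (pullbackSpecIso R B A).inv_hom_id_assoc
          (Spec.map (CommRingCat.ofHom (GLin.coactAlgHom R A B).toRingHom))) h1
  have h3 : ∀ (f : CommRingCat.of B ⟶ CommRingCat.of (TensorProduct R B A)),
      (Scheme.ΓSpecIso _).hom ((Spec.map f).appTop c) = f ((Scheme.ΓSpecIso _).hom c) := fun f =>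
    CategoryTheory.congr_fun (Scheme.ΓSpecIso_naturality f) c
  have h4 := congrArg (Scheme.ΓSpecIso (CommRingCat.of (TensorProduct R B A))).hom h2
  rw [h3, h3] at h4
  exact h4.symm

theorem comp_toQuot_eq {K : Type u} [CommRing K] [Algebra R K] (x₁ x₂ : B →ₐ[R] K)
    (h : ∀ c ∈ GLin.invariants R A B, x₁ c = x₂ c) :
    Spec.map (CommRingCat.ofHom x₁.toRingHom) ≫ (gr R A B).toQuot =
      Spec.map (CommRingCat.ofHom x₂.toRingHom) ≫ (gr R A B).toQuot := by
  have e : ∀ (x : B →ₐ[R] K), Spec.map (CommRingCat.ofHom x.toRingHom) ≫ (gr R A B).toQuot =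
      (Spec (CommRingCat.of K)).toSpecΓ ≫ Spec.map (CommRingCat.ofHom (gr R A B).invariants.subtype ≫
        (Spec.map (CommRingCat.ofHom x.toRingHom)).appTop) := by
    intro x
    rw [Spec.map_comp]
    exact Scheme.toSpecΓ_naturality_assoc (Spec.map (CommRingCat.ofHom x.toRingHom))
      (Spec.map (CommRingCat.ofHom (gr R A B).invariants.subtype))
  rw [e, e]
  congr 2
  ext c
  have h3 : ∀ (f : CommRingCat.of B ⟶ CommRingCat.of K) (c : Γ(Spec (CommRingCat.of B), ⊤)),
      (Scheme.ΓSpecIso _).hom ((Spec.map f).appTop c) = f ((Scheme.ΓSpecIso _).hom c) := fun f c =>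
    CategoryTheory.congr_fun (Scheme.ΓSpecIso_naturality f) c
  apply (ConcreteCategory.bijective_of_isIso (Scheme.ΓSpecIso (CommRingCat.of K)).hom).1
  refine (h3 (CommRingCat.ofHom x₁.toRingHom) c.1).trans
    (Eq.trans ?_ (h3 (CommRingCat.ofHom x₂.toRingHom) c.1).symm)
  exact h _ (inv_mem c.2)

/-- Geometric points agreeing on the invariants are conjugate. -/
theorem exists_conj [Module.Finite R A] [Module.Projective R A] {K : Type u} [Field K] [IsAlgClosed K]
    [Algebra R K] (x₁ x₂ : B →ₐ[R] K) (h : ∀ c ∈ GLin.invariants R A B, x₁ c = x₂ c) :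
    ∃ g : sp R K ⟶ sp R A, lift g (pt x₂) ≫ (action R A B).act = pt x₁ := by
  obtain ⟨r, hr₁, hr₂⟩ := Groth.Agent.Grpsch.AffGrpd.exists_geomPoint_R (gr R A B) K
    (Spec.map (CommRingCat.ofHom x₁.toRingHom)) (Spec.map (CommRingCat.ofHom x₂.toRingHom))
    (comp_toQuot_eq x₁ x₂ h)
  have hw : r ≫ (sp R A ⊗ sp R B).hom = (sp R K).hom := by
    have e1 : (sp R A ⊗ sp R B).hom = (snd (sp R A) (sp R B)).left ≫ (sp R B).hom :=
      (Over.w (snd (sp R A) (sp R B))).symm
    rw [e1]
    have e2 : r ≫ (snd (sp R A) (sp R B)).left = (pt x₂).left := hr₂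
    rw [← Over.w (pt x₂), ← e2]
    exact (Category.assoc _ _ _).symm
  let r' : sp R K ⟶ sp R A ⊗ sp R B := Over.homMk r hw
  have h1 : r' ≫ (action R A B).act = pt x₁ := Over.OverMorphism.ext hr₁
  have h2 : r' ≫ snd _ _ = pt x₂ := Over.OverMorphism.ext hr₂
  refine ⟨r' ≫ fst _ _, ?_⟩
  rw [← h1, ← h2, lift_comp_fst_snd]

open Groth.Agent.Sga3.H775.ActGrpd in
/-- stabilisers of conjugate points are conjugate -/
theorem stab_conj {G X : Over (Spec (CommRingCat.of R))} [GrpObj G] (a : AlgGrp.Action G X)
    {T : Over (Spec (CommRingCat.of R))} (u k : T ⟶ G) (y : T ⟶ X) :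
    lift k (lift u y ≫ a.act) ≫ a.act = lift u y ≫ a.act ↔ lift (u⁻¹ * k * u) y ≫ a.act = y := by
  rw [← lift_mul_act]
  constructor
  · intro h
    have := congrArg (fun z => lift u⁻¹ z ≫ a.act) h
    simp only [← lift_mul_act] at this
    rw [inv_mul_cancel, lift_one_act, ← _root_.mul_assoc] at this
    exact this
  · intro h
    have := congrArg (fun z => lift u z ≫ a.act) h
    simp only [← lift_mul_act] at this
    rw [← _root_.mul_assoc, ← _root_.mul_assoc, mul_inv_cancel, _root_.one_mul] at this
    exact this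

theorem stab_iff {L : Type u} [CommRing L] [Algebra R L] {x₁ x₂ : B →ₐ[R] L} {g : sp R L ⟶ sp R A}
    (hg : lift g (pt x₂) ≫ (action R A B).act = pt x₁) (T : Over (Spec (CommRingCat.of R)))
    (h : T ⟶ sp R L) (k : T ⟶ sp R A) :
    lift k (h ≫ pt x₁) ≫ (action R A B).act = h ≫ pt x₁ ↔
      lift ((h ≫ g)⁻¹ * k * (h ≫ g)) (h ≫ pt x₂) ≫ (action R A B).act = h ≫ pt x₂ := by
  rw [← stab_conj, ← hg, ← Category.assoc, comp_lift]

theorem STriv.conj {L : Type u} [CommRing L] [Algebra R L] {x₁ x₂ : B →ₐ[R] L} {g : sp R L ⟶ sp R A}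
    (hg : lift g (pt x₂) ≫ (action R A B).act = pt x₁) (H : STriv (A := A) x₂) : STriv (A := A) x₁ := by
  intro T h k hk
  have := H T h _ ((stab_iff hg T h k).mp hk)
  have h2 : (h ≫ g) * ((h ≫ g)⁻¹ * k * (h ≫ g)) * (h ≫ g)⁻¹ = 1 := by
    rw [this, _root_.mul_one, mul_inv_cancel]
  rw [← h2]
  group

/-- the point of `Spec B` underlying a field-valued point -/
def pr {K : Type u} [Field K] [Algebra R K] (x : B →ₐ[R] K) : PrimeSpectrum B :=
  ⟨RingHom.ker x.toRingHom, RingHom.ker_isPrime _⟩

theorem triv_iff_notMem [Module.Finite R A] {K : Type u} [Field K] [Algebra R K] (x : B →ₐ[R] K) :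
    STriv (A := A) x ↔ pr x ∉ Module.support B (M R A B) := by
  let := x.toRingHom.toAlgebra
  have : IsScalarTower R B K := IsScalarTower.of_algebraMap_eq fun r => (x.commutes r).symm
  have hx : x = IsScalarTower.toAlgHom R B K := AlgHom.ext fun _ => rfl
  have h1 : STriv (A := A) x ↔ Subsingleton (TensorProduct B K (M R A B)) := by
    rw [← triv_iff, hx]
    exact ⟨subsingleton_of_triv, triv_of_subsingleton⟩
  rw [h1]
  exact K836.Supp.subsingleton_field_iff (M R A B) K

theorem triv_of_notMem [Module.Finite R A] {L : Type u} [CommRing L] [Algebra R L] (x : B →ₐ[R] L)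
    (h : ∀ P : PrimeSpectrum L, PrimeSpectrum.comap x.toRingHom P ∉ Module.support B (M R A B)) :
    STriv (A := A) x := by
  let := x.toRingHom.toAlgebra
  have : IsScalarTower R B L := IsScalarTower.of_algebraMap_eq fun r => (x.commutes r).symm
  have hx : x = IsScalarTower.toAlgHom R B L := AlgHom.ext fun _ => rfl
  rw [← triv_iff, hx]
  apply triv_of_subsingleton
  exact K836.Supp.subsingleton_baseChange (M R A B) L h

/-- The support of the inertia module is saturated. -/
theorem mem_support_of_comap_eq [Module.Finite R A] [Module.Projective R A] {p q : PrimeSpectrum B}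
    (h : PrimeSpectrum.comap (algebraMap (GLin.invariants R A B) B) p =
      PrimeSpectrum.comap (algebraMap (GLin.invariants R A B) B) q)
    (hp : p ∉ Module.support B (M R A B)) : q ∉ Module.support B (M R A B) := by
  have hk : RingHom.ker ((algebraMap B p.asIdeal.ResidueField).comp (algebraMap (GLin.invariants R A B) B)) =
      RingHom.ker ((algebraMap B q.asIdeal.ResidueField).comp (algebraMap (GLin.invariants R A B) B)) := by
    have e : ∀ p : PrimeSpectrum B, RingHom.ker ((algebraMap B p.asIdeal.ResidueField).comp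
        (algebraMap (GLin.invariants R A B) B)) =
          (PrimeSpectrum.comap (algebraMap (GLin.invariants R A B) B) p).asIdeal := by
      intro p
      ext c
      rw [RingHom.mem_ker, PrimeSpectrum.comap_asIdeal, Ideal.mem_comap, RingHom.comp_apply]
      exact Ideal.algebraMap_residueField_eq_zero
    rw [e, e, h]
  obtain ⟨Ω, _, _, g₁, g₂, hg⟩ := K836.Common.exists_field _ _ hk
  let : Algebra R Ω := (g₁.comp ((algebraMap B p.asIdeal.ResidueField).comp (algebraMap R B))).toAlgebra
  have hc : ∀ c ∈ GLin.invariants R A B, g₁ (algebraMap B _ c) = g₂ (algebraMap B _ c) := fun c hc =>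
    DFunLike.congr_fun hg ⟨c, hc⟩
  let x₁ : B →ₐ[R] Ω := { g₁.comp (algebraMap B p.asIdeal.ResidueField) with commutes' := fun r => rfl }
  let x₂ : B →ₐ[R] Ω := { g₂.comp (algebraMap B q.asIdeal.ResidueField) with
    commutes' := fun r => (hc _ (Subalgebra.algebraMap_mem _ r)).symm }
  have h1 : pr x₁ = p := by
    ext b
    change g₁ (algebraMap B _ b) = 0 ↔ _
    rw [map_eq_zero_iff g₁ g₁.injective]
    exact Ideal.algebraMap_residueField_eq_zero
  have h2 : pr x₂ = q := by
    ext b
    change g₂ (algebraMap B _ b) = 0 ↔ _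
    rw [map_eq_zero_iff g₂ g₂.injective]
    exact Ideal.algebraMap_residueField_eq_zero
  rw [← h1, ← triv_iff_notMem] at hp
  obtain ⟨g, hg⟩ := exists_conj x₂ x₁ fun c hcc => (hc c hcc).symm
  have := hp.conj hg
  rwa [triv_iff_notMem, h2] at this

/-- `B` is integral over the invariants. -/
theorem isIntegral [Module.Finite R A] [Module.Projective R A] :
    Algebra.IsIntegral (GLin.invariants R A B) B := by
  obtain ⟨n, ⟨D⟩⟩ := Groth.Agent.Grpsch.AffGrpd.exists_DB_appTop (gr R A B).s
  let H := Groth.Agent.Grpsch.AffGrpd.RGrpd.ofScheme (gr R A B)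
  let e : B ≃+* Γ(Spec (CommRingCat.of B), ⊤) :=
    (Scheme.ΓSpecIso (CommRingCat.of B)).symm.commRingCatIsoToRingEquiv
  refine ⟨fun b => ?_⟩
  let a : Γ(Spec (CommRingCat.of B), ⊤) := e b
  let p : Polynomial Γ((gr R A B).U, ⊤) := D.cp (H.t a)
  have hp : ∀ k, p.coeff k ∈ (gr R A B).invariants := fun k => H.cp_coeff_invariant D a k
  have hmonic : p.Monic := Matrix.charpoly_monic _
  have hroot : p.eval a = 0 := H.eval_cp_self D a
  let p' : Polynomial B := p.map e.symm.toRingHom
  have hp' : ∀ k, p'.coeff k ∈ GLin.invariants R A B := by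
    intro k
    rw [Polynomial.coeff_map]
    exact inv_mem (hp k)
  have hlift : p' ∈ Polynomial.lifts (algebraMap (GLin.invariants R A B) B) := by
    rw [Polynomial.lifts_iff_coeff_lifts]
    exact fun k => ⟨⟨_, hp' k⟩, rfl⟩
  obtain ⟨r, hr, -, hrm⟩ := Polynomial.lifts_and_natDegree_eq_and_monic hlift (hmonic.map _)
  refine ⟨r, hrm, ?_⟩
  rw [← Polynomial.eval_map, hr]
  have h1 : e.symm a = b := e.symm_apply_apply b
  rw [← h1]
  change Polynomial.eval (e.symm.toRingHom a) (p.map e.symm.toRingHom) = 0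
  rw [Polynomial.eval_map, Polynomial.eval₂_hom]
  exact (congrArg e.symm.toRingHom hroot).trans (map_zero _)

end K836.Inertia
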