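import Groth.Agent.CoactBr.K836.Orbits

/-!
# Inertia over the base ring when `R = B^A`, and the open locus with trivial inertia
-/

set_option autoImplicit false
universe u

open CategoryTheory MonoidalCategory CartesianMonoidalCategory MonObj AlgebraicGeometry
open CoactBr

namespace K836.Inertia

variable {R A B : Type u} [CommRing R] [CommRing A] [CommRing B] [HopfAlgebra R A] [Algebra R B]
  [HopfRep.Comod R A B] [GLin.IsCoactAlg R A B]

theorem eq_of_bij (hC : Function.Bijective (algebraMap R (GLin.invariants R A B))) {c : B}
    (hc : c ∈ GLin.invariants R A B) : ∃ r, c = algebraMap R B r := by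
  obtain ⟨r, hr⟩ := hC.2 ⟨c, hc⟩
  exact ⟨r, (congrArg Subtype.val hr).symm⟩

theorem comap_eq_of_bij (hC : Function.Bijective (algebraMap R (GLin.invariants R A B)))
    {p q : PrimeSpectrum B}
    (h : PrimeSpectrum.comap (algebraMap R B) p = PrimeSpectrum.comap (algebraMap R B) q) :
    PrimeSpectrum.comap (algebraMap (GLin.invariants R A B) B) p =
      PrimeSpectrum.comap (algebraMap (GLin.invariants R A B) B) q := by
  ext c
  obtain ⟨r, hr⟩ := eq_of_bij hC c.2
  have h' := congrArg (fun x : PrimeSpectrum R => r ∈ x.asIdeal) h
  simp only [PrimeSpectrum.comap_asIdeal, Ideal.mem_comap, eq_iff_iff] at h' ⊢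
  rw [← hr] at h'
  exact h'

theorem comap_pr {K : Type u} [Field K] [Algebra R K] (x : B →ₐ[R] K) :
    (PrimeSpectrum.comap (algebraMap R B) (pr x)).asIdeal = RingHom.ker (algebraMap R K) := by
  ext r
  rw [PrimeSpectrum.comap_asIdeal, Ideal.mem_comap, RingHom.mem_ker]
  change x (algebraMap R B r) = 0 ↔ _
  rw [AlgHom.commutes]

/-- Triviality of the inertia is a property of the point of the quotient. -/
theorem STriv.of_ker_eq [Module.Finite R A] [Module.Projective R A]
    (hC : Function.Bijective (algebraMap R (GLin.invariants R A B)))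
    {K₁ K₂ : Type u} [Field K₁] [Field K₂] [Algebra R K₁] [Algebra R K₂]
    (hq : RingHom.ker (algebraMap R K₁) = RingHom.ker (algebraMap R K₂))
    {x₁ : B →ₐ[R] K₁} (x₂ : B →ₐ[R] K₂) (h : STriv (A := A) x₁) : STriv (A := A) x₂ := by
  rw [triv_iff_notMem] at h ⊢
  refine mem_support_of_comap_eq (comap_eq_of_bij hC ?_) h
  ext1
  rw [comap_pr, comap_pr, hq]

theorem isMaximal_comap [Module.Finite R A] [Module.Projective R A]
    (hC : Function.Bijective (algebraMap R (GLin.invariants R A B))) (m : Ideal B) [hm : m.IsMaximal] :
    (m.comap (algebraMap R B)).IsMaximal := by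
  have := isIntegral (R := R) (A := A) (B := B)
  have h1 : (m.comap (algebraMap (GLin.invariants R A B) B)).IsMaximal :=
    Ideal.isMaximal_comap_of_isIntegral_of_isMaximal m
  have h2 := Ideal.comap_isMaximal_of_surjective (algebraMap R (GLin.invariants R A B)) hC.2
    (K := m.comap (algebraMap (GLin.invariants R A B) B))
  rwa [Ideal.comap_comap, ← IsScalarTower.algebraMap_eq] at h2

/-- Over a local base, triviality of the inertia over the closed point means that the action is free. -/
theorem STriv.of_local [IsLocalRing R] [Module.Finite R A] [Module.Projective R A]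
    (hC : Function.Bijective (algebraMap R (GLin.invariants R A B)))
    {K : Type u} [Field K] [Algebra R K]
    (hK : RingHom.ker (algebraMap R K) = IsLocalRing.maximalIdeal R)
    {x : B →ₐ[R] K} (h : STriv (A := A) x) : STriv (A := A) (AlgHom.id R B) := by
  rw [triv_iff_notMem] at h
  apply triv_of_notMem
  intro P hP
  have hP' : P ∈ Module.support B (M R A B) := hP
  obtain ⟨m, hm, hPm⟩ := Ideal.exists_le_maximal P.asIdeal P.2.ne_top
  have hm' : (⟨m, hm.isPrime⟩ : PrimeSpectrum B) ∈ Module.support B (M R A B) :=
    Module.mem_support_mono (p := P) hPm hP'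
  refine mem_support_of_comap_eq (comap_eq_of_bij hC ?_) h hm'
  ext1
  rw [comap_pr, hK]
  exact (IsLocalRing.eq_maximalIdeal (isMaximal_comap hC m)).symm

/-- The open set of points of `Spec B^A` over which the inertia is trivial. -/
noncomputable def W [Module.Finite R A] [Module.Projective R A] :
    (Spec (CommRingCat.of (GLin.invariants R A B))).Opens where
  carrier := (PrimeSpectrum.comap (algebraMap (GLin.invariants R A B) B) ''
    Module.support B (M R A B))ᶜ
  is_open' := by
    have := isIntegral (R := R) (A := A) (B := B)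
    rw [isOpen_compl_iff]
    refine PrimeSpectrum.isClosedMap_comap_of_isIntegral _ ?_ _ Module.isClosed_support
    exact algebraMap_isIntegral_iff.mpr this

end K836.Inertia
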